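import Groth.Agent.L17.BC.PullSec
import Groth.Agent.L16.AffineBC.Pullback
import Groth.Prelude.Def_EtAssoc2

/-! # Restriction of sections of pullbacks along morphisms over a base -/

universe u

open CategoryTheory CategoryTheory.Limits AlgebraicGeometry TopologicalSpace Opposite
open scoped TensorProduct

set_option autoImplicit false
set_option linter.style.haveILetI false
set_option linter.unusedSectionVars false
set_option backward.isDefEq.respectTransparency false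

noncomputable section

namespace Groth.L27.Assoc

open Groth.L18.Frame (rs ro rs_rs rs_self rs_smul pull pull_rs pull_smul)
open Groth.L17.BC.PullSec (app_rs comp_pull_rs congr_pull)


/-- Morphisms out of a pullback are determined on pulled back sections. -/
theorem ext_pull {X Y : Scheme.{u}} (f : X ⟶ Y) {M : Y.Modules} {N : X.Modules}
    {φ ψ : (Scheme.Modules.pullback f).obj M ⟶ N}
    (h : ∀ (W : Y.Opens) (s : Γ(M, W)), φ.app (f ⁻¹ᵁ W) (pull f M W s) = ψ.app (f ⁻¹ᵁ W) (pull f M W s)) :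
    φ = ψ := by
  refine ((Scheme.Modules.pullbackPushforwardAdjunction f).homEquiv M N).injective ?_
  rw [Adjunction.homEquiv_unit, Adjunction.homEquiv_unit]
  refine Scheme.Modules.hom_ext _ _ fun W => ?_
  ext s
  exact h W s

variable {S : Scheme.{u}} (F : S.Modules) {U U' U'' : Scheme.{u}}

/-- The pullback of the fixed module. -/
abbrev Mo (u : U ⟶ S) : U.Modules := (Scheme.Modules.pullback u).obj F

/-- The transition of the pullbacks along a morphism over the base. -/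
def θ (g : U' ⟶ U) (u : U ⟶ S) (u' : U' ⟶ S) (w : g ≫ u = u') : (Scheme.Modules.pullback g).obj (Mo F u) ⟶ Mo F u' :=
  (Scheme.Modules.pullbackComp g u).hom.app F ≫ (Scheme.Modules.pullbackCongr w).hom.app F

/-- The transition as a morphism to the pushforward. -/
def adjR (g : U' ⟶ U) (u : U ⟶ S) (u' : U' ⟶ S) (w : g ≫ u = u') : Mo F u ⟶ (Scheme.Modules.pushforward g).obj (Mo F u') :=
  (Scheme.Modules.pullbackPushforwardAdjunction g).homEquiv _ _ (θ F g u u' w)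

variable (g : U' ⟶ U) (u : U ⟶ S) (u' : U' ⟶ S) (w : g ≫ u = u')

/-- Restriction of sections. -/
def R {V : U.Opens} {V' : U'.Opens} (e : V' ≤ g ⁻¹ᵁ V) (s : Γ(Mo F u, V)) : Γ(Mo F u', V') :=
  (θ F g u u' w).app V' (rs _ e (pull g (Mo F u) V s))

theorem adjR_app {V : U.Opens} {V' : U'.Opens} (e : V' ≤ g ⁻¹ᵁ V) (s : Γ(Mo F u, V)) :
    rs (Mo F u') e ((adjR F g u u' w).app V s) = R F g u u' w e s := by
  rw [adjR, Adjunction.homEquiv_unit]
  exact (app_rs (θ F g u u' w) e (pull g (Mo F u) V s)).symm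

/-- Restriction of sections coming from the base. -/
theorem R_pull {T : S.Opens} (t : Γ(F, T)) {V : U.Opens} {V' : U'.Opens} (e₀ : V ≤ u ⁻¹ᵁ T) (e : V' ≤ g ⁻¹ᵁ V)
    (e' : V' ≤ u' ⁻¹ᵁ T) :
    R F g u u' w e (rs (Mo F u) e₀ (pull u F T t)) = rs (Mo F u') e' (pull u' F T t) := by
  subst w
  have e'' : V' ≤ g ⁻¹ᵁ (u ⁻¹ᵁ T) := e.trans (g.preimage_mono e₀)
  rw [R, ← pull_rs g (Mo F u) e₀, rs_rs]
  refine (congrArg ((Scheme.Modules.pullbackCongr (rfl : g ≫ u = g ≫ u)).hom.app F |>.app V')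
    (comp_pull_rs g u F T t V' e'')).trans ?_
  exact congr_pull rfl F T t V' e'' e'

theorem R_add {V : U.Opens} {V' : U'.Opens} (e : V' ≤ g ⁻¹ᵁ V) (s t : Γ(Mo F u, V)) :
    R F g u u' w e (s + t) = R F g u u' w e s + R F g u u' w e t := by
  rw [← adjR_app, ← adjR_app, ← adjR_app, map_add]
  exact map_add _ _ _

theorem R_zero {V : U.Opens} {V' : U'.Opens} (e : V' ≤ g ⁻¹ᵁ V) : R F g u u' w e 0 = 0 := by
  rw [← adjR_app, map_zero]
  exact map_zero _

theorem R_smul {V : U.Opens} {V' : U'.Opens} (e : V' ≤ g ⁻¹ᵁ V) (a : Γ(U, V)) (s : Γ(Mo F u, V)) :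
    R F g u u' w e (a • s) = g.appLE V V' e a • R F g u u' w e s := by
  rw [R, pull_smul, rs_smul]
  exact ((θ F g u u' w).app_smul _ _)

theorem R_rs {V W : U.Opens} {V' W' : U'.Opens} (h : W ≤ V) (h' : W' ≤ V') (e : V' ≤ g ⁻¹ᵁ V) (e' : W' ≤ g ⁻¹ᵁ W)
    (s : Γ(Mo F u, V)) : R F g u u' w e' (rs _ h s) = rs _ h' (R F g u u' w e s) := by
  rw [R, R, ← pull_rs g (Mo F u) h, rs_rs, ← app_rs, rs_rs]

/-- Restriction along the identity. -/
theorem R_id {V V' : U.Opens} (h : 𝟙 U ≫ u = u) (e : V' ≤ (𝟙 U) ⁻¹ᵁ V) (e₁ : V' ≤ V) (s : Γ(Mo F u, V)) :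
    R F (𝟙 U) u u h e s = rs _ e₁ s := by
  have key : adjR F (𝟙 U) u u h = (Scheme.Modules.pushforwardId U).inv.app (Mo F u) := by
    refine ext_pull u fun T t => ?_
    refine Eq.trans ?_ (R_pull F (𝟙 U) u u h t (V' := (𝟙 U) ⁻¹ᵁ (u ⁻¹ᵁ T)) le_rfl le_rfl le_rfl) |>.trans ?_
    · rw [← adjR_app]
      exact ((rs_self _ _ _).trans (congrArg _ (rs_self _ _ _))).symm
    · exact rs_self _ _ _
  rw [← adjR_app, key]
  rfl

/-- Restriction along a composite. -/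
theorem R_comp (g' : U'' ⟶ U') (u'' : U'' ⟶ S) (w' : g' ≫ u' = u'') (h : (g' ≫ g) ≫ u = u'') {V : U.Opens}
    {V' : U'.Opens} {V'' : U''.Opens} (e : V' ≤ g ⁻¹ᵁ V) (e' : V'' ≤ g' ⁻¹ᵁ V') (e'' : V'' ≤ (g' ≫ g) ⁻¹ᵁ V)
    (s : Γ(Mo F u, V)) :
    R F g' u' u'' w' e' (R F g u u' w e s) = R F (g' ≫ g) u u'' h e'' s := by
  have key : adjR F g u u' w ≫ (Scheme.Modules.pushforward g).map (adjR F g' u' u'' w') ≫
      (Scheme.Modules.pushforwardComp g' g).hom.app _ = adjR F (g' ≫ g) u u'' h := by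
    refine ext_pull u fun T t => ?_
    have h1 : (adjR F g u u' w).app (u ⁻¹ᵁ T) (pull u F T t) =
        R F g u u' w (V' := g ⁻¹ᵁ (u ⁻¹ᵁ T)) le_rfl (rs _ le_rfl (pull u F T t)) := by
      rw [← adjR_app, rs_self, rs_self]
    have e0 : g ⁻¹ᵁ (u ⁻¹ᵁ T) ≤ u' ⁻¹ᵁ T := le_of_eq (by rw [← w]; rfl)
    have e1 : g' ⁻¹ᵁ (g ⁻¹ᵁ (u ⁻¹ᵁ T)) ≤ u'' ⁻¹ᵁ T := le_of_eq (by rw [← h]; rfl)
    show (adjR F g' u' u'' w').app (g ⁻¹ᵁ (u ⁻¹ᵁ T)) ((adjR F g u u' w).app (u ⁻¹ᵁ T) (pull u F T t)) =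
      (adjR F (g' ≫ g) u u'' h).app (u ⁻¹ᵁ T) (pull u F T t)
    rw [h1, R_pull F g u u' w t le_rfl le_rfl e0]
    have h2 := R_pull F g' u' u'' w' t (V' := g' ⁻¹ᵁ (g ⁻¹ᵁ (u ⁻¹ᵁ T))) e0 le_rfl e1
    rw [← adjR_app, rs_self] at h2
    have h3 := R_pull F (g' ≫ g) u u'' h t (V' := g' ⁻¹ᵁ (g ⁻¹ᵁ (u ⁻¹ᵁ T))) le_rfl le_rfl e1
    rw [← adjR_app, rs_self, rs_self] at h3
    exact h2.trans h3.symm
  rw [← adjR_app F g' u' u'' w' e', ← adjR_app F g u u' w e,
    ← adjR_app F (g' ≫ g) u u'' h e'', ← key]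
  refine (congrArg (rs _ e') (app_rs (adjR F g' u' u'' w') e _)).trans ?_
  exact rs_rs _ _ _ _

theorem R_congr {g₁ g₂ : U' ⟶ U} (hg : g₁ = g₂) (w₁ : g₁ ≫ u = u') (w₂ : g₂ ≫ u = u') {V : U.Opens} {V' : U'.Opens}
    (e₁ : V' ≤ g₁ ⁻¹ᵁ V) (e₂ : V' ≤ g₂ ⁻¹ᵁ V) (s : Γ(Mo F u, V)) :
    R F g₁ u u' w₁ e₁ s = R F g₂ u u' w₂ e₂ s := by
  subst hg; rfl

instance isIso_θ : IsIso (θ F g u u' w) := by
  unfold θ
  infer_instance

/-- Restriction along an open immersion is bijective. -/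
theorem bijective_R_of_isOpenImmersion [IsOpenImmersion g] (W : U'.Opens) (e : W ≤ g ⁻¹ᵁ (g ''ᵁ W)) :
    Function.Bijective (R F g u u' w e) := by
  let a := (Scheme.Modules.restrictFunctorIsoPullback g).app (Mo F u) ≪≫ asIso (θ F g u u' w)
  have h : (R F g u u' w e : _ → _) = fun s => a.hom.app W s := by
    funext s
    refine congrArg ((θ F g u u' w).app W) ?_
    rw [← Groth.L17.BC.PullSec.restrict_pull g (Mo F u) (g ''ᵁ W) s, ← app_rs]
    refine congrArg _ ?_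
    exact (rs_rs _ _ (g.image_mono e) s).trans (rs_self _ _ s)
  rw [h]
  exact Function.bijective_iff_has_inverse.2 ⟨fun s => a.inv.app W s,
    fun s => congr($(congrArg (fun k => Scheme.Modules.Hom.app k W) a.hom_inv_id) s),
    fun s => congr($(congrArg (fun k => Scheme.Modules.Hom.app k W) a.inv_hom_id) s)⟩

/-- The frozen restriction map. -/
theorem resMap_eq {A B : S.Etale} (g : B ⟶ A) (s : Γ(Mo F A.hom, ⊤))
    (w : g.left ≫ A.hom = B.hom) (e : (⊤ : B.left.Opens) ≤ g.left ⁻¹ᵁ ⊤) :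
    EtAssoc.resMap F g s = R F g.left A.hom B.hom w e s := by
  unfold EtAssoc.resMap EtAssoc.step1 EtAssoc.step2 EtAssoc.step2a R θ
  simp only [Scheme.Modules.pullbackCongr, eqToIso.hom, eqToHom_app]
  rfl

/-- Sections of the pullback over affines are the base change. -/
theorem exists_bcEquiv [Coh.IsQCoh (Mo F u)] {V : U.Opens} {V' : U'.Opens} (hV : IsAffineOpen V)
    (hV' : IsAffineOpen V') (e : V' ≤ g ⁻¹ᵁ V) :
    letI := (g.appLE V V' e).hom.toAlgebra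
    ∃ E : Γ(U', V') ⊗[Γ(U, V)] Γ(Mo F u, V) ≃+ Γ(Mo F u', V'),
      ∀ b m, E (b ⊗ₜ m) = b • R F g u u' w e m := by
  letI := (g.appLE V V' e).hom.toAlgebra
  letI := Module.compHom Γ((Scheme.Modules.pullback g).obj (Mo F u), V') (g.appLE V V' e).hom
  haveI : IsScalarTower Γ(U, V) Γ(U', V') Γ((Scheme.Modules.pullback g).obj (Mo F u), V') :=
    IsScalarTower.of_algebraMap_smul fun _ _ => rfl
  have hb := Groth.L16.AffineBC.isBaseChange_pull g (Mo F u) hV hV' e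
  let a := asIso (θ F g u u' w)
  let A : Γ((Scheme.Modules.pullback g).obj (Mo F u), V') ≃+ Γ(Mo F u', V') :=
    { toFun := fun x => a.hom.app V' x
      invFun := fun x => a.inv.app V' x
      left_inv := fun x => congr($(congrArg (fun k => Scheme.Modules.Hom.app k V') a.hom_inv_id) x)
      right_inv := fun x => congr($(congrArg (fun k => Scheme.Modules.Hom.app k V') a.inv_hom_id) x)
      map_add' := fun x y => map_add _ x y }
  refine ⟨hb.equiv.toAddEquiv.trans A, fun b m => ?_⟩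
  show (θ F g u u' w).app V' (hb.equiv (b ⊗ₜ m)) = _
  rw [IsBaseChange.equiv_tmul, (θ F g u u' w).app_smul]
  rfl

end Groth.L27.Assoc
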