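import Groth.Agent.L27.Assoc.Presheaf
import Groth.Agent.L28.EtCartan.Amitsur
import Mathlib.RingTheory.Flat.FaithfullyFlat.Algebra

/-! # Descent and Cech exactness for sections over affine etale schemes -/

universe u

open CategoryTheory CategoryTheory.Limits AlgebraicGeometry TopologicalSpace Opposite
open scoped TensorProduct

set_option autoImplicit false
set_option linter.style.haveILetI false
set_option linter.unusedSectionVars false
set_option backward.isDefEq.respectTransparency false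

noncomputable section

namespace Groth.L27.Assoc

open Groth.L28.EtCartan (fn fn_fn fn_congr)
open Groth.L10 (Nerve.N Nerve.δ Nerve.pr Nerve.bs Nerve.pr_w Nerve.δ_pr Nerve.δ_bs)

variable {S : Scheme.{u}} (F : S.Modules)

theorem res_congr {A B : S.Etale} {f g : B ⟶ A} (h : f = g) (s : Sec F A) : res F f s = res F g s := by rw [h]

theorem res_smul {A B : S.Etale} (g : B ⟶ A) (a : Γ(A.left, ⊤)) (s : Sec F A) :
    res F g (a • s) = fn g a • res F g s := by
  rw [res_apply, R_smul, res_apply]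
  congr 1
  exact congr($((Scheme.Hom.app_eq_appLE g.left (U := ⊤)).symm) a)

variable [Coh.IsQCoh F]

instance isQCoh_Mo {U : Scheme.{u}} (u : U ⟶ S) : Coh.IsQCoh (Mo F u) :=
  Groth.L16.AffineBC.isQCoh_pullback u F

/-- Sections over affines are the base change. -/
theorem exists_bc {A B : S.Etale} (g : B ⟶ A) [IsAffine A.left] [IsAffine B.left] :
    letI := (fn g).toAlgebra
    ∃ E : Γ(B.left, ⊤) ⊗[Γ(A.left, ⊤)] Sec F A ≃+ Sec F B, ∀ b m, E (b ⊗ₜ m) = b • res F g m := by
  have key : ∀ (φ : Γ(A.left, (⊤ : A.left.Opens)) →+* Γ(B.left, (⊤ : B.left.Opens))),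
      φ = (g.left.appLE ⊤ ⊤ le_top).hom →
      letI := φ.toAlgebra
      ∃ E : Γ(B.left, ⊤) ⊗[Γ(A.left, ⊤)] Sec F A ≃+ Sec F B, ∀ b m, E (b ⊗ₜ m) = b • res F g m := by
    rintro φ rfl
    obtain ⟨E, hE⟩ := exists_bcEquiv F g.left A.hom B.hom (MorphismProperty.Over.w g)
      (isAffineOpen_top A.left) (isAffineOpen_top B.left) (le_top : (⊤ : B.left.Opens) ≤ g.left ⁻¹ᵁ ⊤)
    exact ⟨E, hE⟩
  exact key _ (congrArg CommRingCat.Hom.hom (Scheme.Hom.app_eq_appLE g.left (U := ⊤)))

/-- Sections over a base change are a tensor product. -/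
theorem exists_theta {U V N P : S.Etale} [IsAffine U.left] [IsAffine V.left] [IsAffine N.left] {p : V ⟶ U}
    {b : N ⟶ U} {pr₁ : P ⟶ N} {pr₂ : P ⟶ V} (H : IsPullback pr₁.left pr₂.left b.left p.left) :
    letI := (fn p).toAlgebra
    letI := Module.compHom (Sec F N) (fn b)
    ∃ e : Sec F N ⊗[Γ(U.left, ⊤)] Γ(V.left, ⊤) ≃+ Sec F P,
      ∀ y c, e (y ⊗ₜ c) = fn pr₂ c • res F pr₁ y := by
  letI := (fn p).toAlgebra
  letI aN := (fn b).toAlgebra
  letI := Module.compHom (Sec F N) (fn b)
  haveI : IsAffine P.left := IsAffine.of_isIso H.isoPullback.hom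
  let bP : P ⟶ U := pr₁ ≫ b
  letI aP := (fn bP).toAlgebra
  letI := Module.compHom (Sec F P) (fn bP)
  obtain ⟨EN, hEN⟩ := exists_bc F b
  obtain ⟨EP, hEP⟩ := exists_bc F bP
  let EN' : Γ(N.left, ⊤) ⊗[Γ(U.left, ⊤)] Sec F U ≃ₗ[Γ(U.left, ⊤)] Sec F N :=
    { EN with
      map_smul' := fun a t => by
        show EN (a • t) = fn b a • EN t
        induction t using TensorProduct.induction_on with
        | zero => rw [smul_zero, map_zero, smul_zero]
        | tmul c m =>
          rw [TensorProduct.smul_tmul', hEN, hEN, show a • c = fn b a * c from rfl, mul_smul]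
        | add x y hx hy => rw [smul_add, map_add, map_add, hx, hy, smul_add] }
  have h := isPushout_appTop_of_isPullback H
  let e₀ := (CommRingCat.isPushout_tensorProduct Γ(U.left, ⊤) Γ(N.left, ⊤) Γ(V.left, ⊤)).isoIsPushout _ _ h
  have hθ : ∀ y c, e₀.hom.hom (y ⊗ₜ c) = fn pr₁ y * fn pr₂ c := fun y c => by
    have e₁ := ConcreteCategory.congr_hom (IsPushout.inl_isoIsPushout_hom _ _
      (CommRingCat.isPushout_tensorProduct Γ(U.left, ⊤) Γ(N.left, ⊤) Γ(V.left, ⊤)) h) y
    have e₂ := ConcreteCategory.congr_hom (IsPushout.inr_isoIsPushout_hom _ _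
      (CommRingCat.isPushout_tensorProduct Γ(U.left, ⊤) Γ(N.left, ⊤) Γ(V.left, ⊤)) h) c
    rw [show (y ⊗ₜ[Γ(U.left, ⊤)] c) = (y ⊗ₜ 1) * (1 ⊗ₜ c) by simp, map_mul]
    exact congrArg₂ (· * ·) e₁ e₂
  let Θ : Γ(N.left, ⊤) ⊗[Γ(U.left, ⊤)] Γ(V.left, ⊤) ≃ₗ[Γ(U.left, ⊤)] Γ(P.left, ⊤) :=
    { e₀.commRingCatIsoToRingEquiv.toAddEquiv with
      map_smul' := fun a t => by
        show e₀.hom.hom (a • t) = fn bP a * e₀.hom.hom t
        induction t using TensorProduct.induction_on with
        | zero => rw [smul_zero, map_zero, mul_zero]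
        | tmul y c =>
          rw [TensorProduct.smul_tmul', hθ, hθ, show a • y = fn b a * y from rfl, map_mul, fn_fn, mul_assoc]
        | add x y hx hy => rw [smul_add, map_add, map_add, hx, hy, mul_add] }
  let L : Sec F N ⊗[Γ(U.left, ⊤)] Γ(V.left, ⊤) ≃ₗ[Γ(U.left, ⊤)] Γ(P.left, ⊤) ⊗[Γ(U.left, ⊤)] Sec F U :=
    (TensorProduct.congr EN'.symm (LinearEquiv.refl _ _)).trans
      ((TensorProduct.rightComm _ _ _ _).trans (TensorProduct.congr Θ (LinearEquiv.refl _ _)))
  refine ⟨L.toAddEquiv.trans EP, fun y c => ?_⟩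
  obtain ⟨t, rfl⟩ := EN'.surjective y
  show EP (L (EN' t ⊗ₜ c)) = _
  simp only [L, LinearEquiv.trans_apply, TensorProduct.congr_tmul, LinearEquiv.symm_apply_apply,
    LinearEquiv.refl_apply]
  induction t using TensorProduct.induction_on with
  | zero => simp only [TensorProduct.zero_tmul, map_zero, smul_zero]
  | tmul d m =>
    rw [TensorProduct.rightComm_tmul, TensorProduct.congr_tmul, LinearEquiv.refl_apply, hEP]
    show e₀.hom.hom (d ⊗ₜ c) • res F bP m = _
    rw [hθ, show EN' (d ⊗ₜ m) = d • res F b m from hEN d m, res_smul, ← res_comp, smul_smul, mul_comm]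
  | add x y hx hy =>
    rw [TensorProduct.add_tmul, map_add, map_add, map_add, hx, hy, map_add, map_add, smul_add]

variable {U V : S.Etale} (p : V ⟶ U) [IsAffine V.left] [IsAffine U.left] [Surjective p.left]

theorem one_tmul_injective {A B M : Type u} [CommRing A] [CommRing B] [Algebra A B] [Module.FaithfullyFlat A B]
    [AddCommGroup M] [Module A M] : Function.Injective fun m : M => m ⊗ₜ[A] (1 : B) := fun a b h =>
  Module.FaithfullyFlat.tensorProduct_mk_injective (A := A) (B := B) M (congrArg (TensorProduct.comm A M B) h)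

/-- Descent along surjections of affines. -/
theorem descent :
    Function.Injective (res F p) ∧ ∀ y : Sec F V,
      (∀ (Z : S.Etale) (g₁ g₂ : Z ⟶ V), g₁ ≫ p = g₂ ≫ p → res F g₁ y = res F g₂ y) →
      ∃ m, res F p m = y := by
  letI := (fn p).toAlgebra
  haveI := Groth.L28.EtCartan.faithfullyFlat p
  letI := Module.compHom (Sec F V) (fn p)
  obtain ⟨E₀, hE₀⟩ := exists_bc F p
  refine ⟨fun a b h => ?_, fun y hy => ?_⟩
  · have h' : ((1 : Γ(V.left, ⊤)) ⊗ₜ[Γ(U.left, ⊤)] a) = 1 ⊗ₜ b := E₀.injective (by rw [hE₀, hE₀, h])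
    exact Module.FaithfullyFlat.tensorProduct_mk_injective (A := Γ(U.left, ⊤)) (B := Γ(V.left, ⊤)) (Sec F U) h'
  have H := Groth.L28.EtCartan.isPullback_left (IsPullback.of_hasPullback p p)
  obtain ⟨e, he⟩ := exists_theta F H
  let D : Sec F U →ₗ[Γ(U.left, ⊤)] Sec F V :=
    { toFun := res F p, map_add' := map_add _, map_smul' := fun a m => res_smul F p a m }
  let q := (LinearMap.range D).mkQ
  obtain ⟨t, ht⟩ := E₀.surjective y
  have key : ∀ t, e ((D.rTensor Γ(V.left, ⊤)) (TensorProduct.comm _ _ _ t)) = res F (pullback.snd p p) (E₀ t) := by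
    intro t
    induction t using TensorProduct.induction_on with
    | zero => simp only [map_zero]
    | tmul c m =>
      rw [TensorProduct.comm_tmul, LinearMap.rTensor_tmul, he, hE₀, res_smul]
      refine congrArg _ ?_
      show res F (pullback.fst p p) (res F p m) = _
      rw [← res_comp, ← res_comp, pullback.condition]
    | add a b ha hb => simp only [map_add, ha, hb]
  have h1 : y ⊗ₜ[Γ(U.left, ⊤)] (1 : Γ(V.left, ⊤)) = D.rTensor Γ(V.left, ⊤) (TensorProduct.comm _ _ _ t) := by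
    refine e.injective ?_
    rw [key, ht, he, map_one, one_smul]
    exact hy _ _ _ pullback.condition
  have h2 : q y ⊗ₜ[Γ(U.left, ⊤)] (1 : Γ(V.left, ⊤)) = (0 : _ ⧸ LinearMap.range D) ⊗ₜ 1 := by
    rw [TensorProduct.zero_tmul, ← LinearMap.rTensor_tmul, h1, ← LinearMap.comp_apply, ← LinearMap.rTensor_comp,
      show q ∘ₗ D = 0 from LinearMap.range_mkQ_comp _, LinearMap.rTensor_zero, LinearMap.zero_apply]
  exact (Submodule.Quotient.mk_eq_zero _).1 (one_tmul_injective h2)

end Groth.L27.Assoc
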