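import Groth.Agent.L27.Assoc.Affine
import Groth.Agent.L28.EtCartan.ZarGa
import Mathlib.Algebra.Category.Grp.Adjunctions

/-! # The etale sheaf of a quasi-coherent module and its acyclicity -/

universe u

open CategoryTheory CategoryTheory.Limits AlgebraicGeometry TopologicalSpace Opposite
open scoped TensorProduct

set_option autoImplicit false
set_option linter.style.haveILetI false
set_option linter.unusedSectionVars false
set_option backward.isDefEq.respectTransparency false

noncomputable section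

namespace Groth.L27.Assoc

open Groth.L28.EtCartan (fn fn_fn fn_congr dup dup_δ dup_δ_last isPullback_last isPullback_left affine_and_surjective compat_δ)
open Groth.L18.Frame (rs rs_rs rs_self)
open Groth.L10 (Nerve.N Nerve.δ Nerve.pr Nerve.bs Nerve.pr_w Nerve.δ_pr Nerve.δ_bs)

variable {S : Scheme.{u}} (F : S.Modules) [Coh.IsQCoh F]

theorem isSheaf_psh : Presheaf.IsSheaf S.smallEtaleTopology (psh F) := by
  rw [Presheaf.isSheaf_iff_isSheaf_forget S.smallEtaleTopology (psh F) (CategoryTheory.forget AddCommGrpCat.{u + 1}),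
    isSheaf_iff_isSheaf_of_type]
  refine SheafCriterion.isSheaf _ (isSheaf_zar F) fun U V _ _ f _ => ?_
  rw [Presieve.isSheafFor_singleton]
  intro y hy
  obtain ⟨hinj, hsurj⟩ := descent F f
  obtain ⟨m, hm⟩ := hsurj y.down fun Z g₁ g₂ e => congrArg ULift.down (hy g₁ g₂ e)
  exact ⟨ULift.up m, ULift.ext _ _ hm, fun m' hm' => ULift.ext _ _ (hinj ((congrArg ULift.down hm').trans hm.symm))⟩

/-- The etale sheaf of a quasi-coherent module. -/
def sh : EtCoh.Ab S := ⟨psh F, isSheaf_psh F⟩

theorem isAssoc_sh : EtAssoc.IsAssoc F (sh F) :=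
  ⟨fun _ => AddEquiv.refl _, fun _ _ g s => (res_eq_resMap F g s.down).symm⟩

/-- An associated sheaf is the canonical one. -/
theorem nonempty_iso_sh {G : EtCoh.Ab S} (hG : EtAssoc.IsAssoc F G) : Nonempty (G ≅ sh F) := by
  obtain ⟨e, he⟩ := hG
  refine ⟨(fullyFaithfulSheafToPresheaf _ _).preimageIso (NatIso.ofComponents
    (fun A => (e A.unop).toAddCommGrpIso) fun {A B} g => ?_)⟩
  ext s
  exact ULift.ext _ _ ((he A.unop B.unop g.unop s).trans (res_eq_resMap F g.unop _))

variable {U V : S.Etale} (p : V ⟶ U)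

/-- The differential. -/
def dM (n : ℕ) : Sec F (Nerve.N p n) →+ Sec F (Nerve.N p (n + 1)) :=
  ∑ j : Fin (n + 2), (-1 : ℤ) ^ (j : ℕ) • res F (Nerve.δ p j)

theorem dM_apply (n : ℕ) (x : Sec F (Nerve.N p n)) :
    dM F p n x = ∑ j : Fin (n + 2), (-1 : ℤ) ^ (j : ℕ) • res F (Nerve.δ p j) x := by
  simp [dM]

/-- The differential without the last face. -/
def dSM (n : ℕ) : Sec F (Nerve.N p (n + 1)) →+ Sec F (Nerve.N p (n + 2)) :=
  ∑ j : Fin (n + 2), (-1 : ℤ) ^ (j : ℕ) • res F (Nerve.δ p j.castSucc)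

theorem dSM_apply (n : ℕ) (x : Sec F (Nerve.N p (n + 1))) :
    dSM F p n x = ∑ j : Fin (n + 2), (-1 : ℤ) ^ (j : ℕ) • res F (Nerve.δ p j.castSucc) x := by
  simp [dSM]

theorem exact_dSM (n : ℕ) (z : Sec F (Nerve.N p (n + 2))) (hz : dSM F p (n + 1) z = 0) :
    ∃ y, dSM F p n y = z := by
  have h := congrArg (res F (dup p (n + 2))) hz
  rw [dSM_apply, map_sum, Fin.sum_univ_castSucc] at h
  simp only [map_zsmul, ← res_comp, dup_δ, dup_δ_last, map_zero, Fin.val_castSucc, Fin.val_last] at h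
  simp only [res_id] at h
  simp only [res_comp] at h
  rw [← dSM_apply] at h
  refine ⟨(-1 : ℤ) ^ (n + 1) • res F (dup p (n + 1)) z, ?_⟩
  rw [map_zsmul, eq_neg_of_add_eq_zero_left h, smul_neg, smul_smul, pow_succ, pow_succ, ← mul_assoc]
  rcases neg_one_pow_eq_or ℤ n with e | e <;> simp [e, pow_succ]

/-- The value of the sheaf. -/
abbrev toSec (A : S.Etale) : (sh F).obj.obj (op A) →+ Sec F A :=
  (AddEquiv.ulift : ULift.{u + 1} (Sec F A) ≃+ Sec F A).toAddMonoidHom

theorem toSec_d (m : ℕ) (w : (sh F).obj.obj (op (Nerve.N p m))) :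
    toSec F _ (Groth.L28.ProEt.Cech.d p (sh F).obj m w) = dM F p m (toSec F _ w) := by
  refine (congrArg (toSec F _) (Groth.L28.ProEt.Cech.d_apply p _ m w)).trans ?_
  refine (map_sum (toSec F (Nerve.N p (m + 1))) _ _).trans ?_
  rw [dM_apply]
  exact Finset.sum_congr rfl fun j _ => map_zsmul (toSec F (Nerve.N p (m + 1))) _ _

variable [IsAffine V.left] [IsAffine U.left] [Surjective p.left]

theorem exact_dM (n : ℕ) (x : Sec F (Nerve.N p (n + 1))) (hx : dM F p (n + 1) x = 0) : ∃ y, dM F p n y = x := by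
  letI alg : ∀ m, Module Γ(U.left, ⊤) (Sec F (Nerve.N p m)) := fun m => Module.compHom _ (fn (Nerve.bs p m))
  letI := (fn p).toAlgebra
  haveI := Groth.L28.EtCartan.faithfullyFlat p
  have hdd : ∀ y, dM F p (n + 1) (dM F p n y) = 0 := fun y => by
    have := congrArg (toSec F _) (Groth.L28.EtCartan.d_d p (sh F).obj n (ULift.up y))
    rw [toSec_d, toSec_d, map_zero] at this
    exact this
  have hsmul : ∀ (m : ℕ) (a : Γ(U.left, ⊤)) (w : Sec F (Nerve.N p m)),
      dM F p m (fn (Nerve.bs p m) a • w) = fn (Nerve.bs p (m + 1)) a • dM F p m w := by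
    intro m a w
    rw [dM_apply, dM_apply, Finset.smul_sum]
    refine Finset.sum_congr rfl fun j _ => ?_
    rw [res_smul, compat_δ, smul_comm]
  let D : ∀ m, Sec F (Nerve.N p m) →ₗ[Γ(U.left, ⊤)] Sec F (Nerve.N p (m + 1)) := fun m =>
    { toFun := dM F p m, map_add' := map_add _, map_smul' := hsmul m }
  have hθ' : ∀ m, ∃ e : Sec F (Nerve.N p m) ⊗[Γ(U.left, ⊤)] Γ(V.left, ⊤) ≃+ Sec F (Nerve.N p (m + 1)),
      ∀ y c, e (y ⊗ₜ c) = fn (Nerve.pr p (Fin.last (m + 1))) c • res F (Nerve.δ p (Fin.last (m + 1))) y := by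
    intro m
    haveI := (affine_and_surjective p m).1
    exact exists_theta F (isPullback_left (isPullback_last p m))
  choose θ hθ using hθ'
  have hcomp : ∀ m t, θ (m + 1) (LinearMap.rTensor Γ(V.left, ⊤) (D m) t) = dSM F p m (θ m t) := by
    intro m t
    induction t using TensorProduct.induction_on with
    | zero =>
      exact (congrArg (θ (m + 1)) (map_zero _)).trans ((map_zero _).trans ((congrArg (dSM F p m) (map_zero (θ m))).trans (map_zero _)).symm)
    | tmul y b =>
      rw [LinearMap.rTensor_tmul, hθ, hθ]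
      show _ • res F _ (dM F p m y) = _
      rw [dM_apply, dSM_apply, map_sum, Finset.smul_sum]
      refine Finset.sum_congr rfl fun j _ => ?_
      rw [map_zsmul, smul_comm, res_smul]
      refine congrArg _ (congrArg₂ (· • ·) ?_ ?_)
      · rw [fn_fn, Nerve.δ_pr, Fin.succAbove_of_le_castSucc _ _ (Fin.castSucc_le_castSucc_iff.2 (Fin.le_last j)),
          Fin.succ_last]
      · rw [← res_comp, ← res_comp]
        refine res_congr F (Groth.L10.Nerve.hom_ext p fun k => ?_) y
        rw [Category.assoc, Category.assoc, Nerve.δ_pr, Nerve.δ_pr, Nerve.δ_pr, Nerve.δ_pr, Fin.succAbove_last,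
          Fin.succAbove_last, Fin.castSucc_succAbove_castSucc]
    | add a b ha hb => simp only [map_add, ha, hb]
  have hex : Function.Exact (LinearMap.rTensor Γ(V.left, ⊤) (D n)) (LinearMap.rTensor Γ(V.left, ⊤) (D (n + 1))) := by
    intro t
    constructor
    · intro ht
      obtain ⟨y, hy⟩ := exact_dSM F p n (θ (n + 1) t) (by rw [← hcomp, ht, map_zero])
      obtain ⟨t', rfl⟩ := (θ n).surjective y
      exact ⟨t', (θ (n + 1)).injective ((hcomp n t').trans hy)⟩
    · rintro ⟨t', rfl⟩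
      rw [← LinearMap.comp_apply, ← LinearMap.rTensor_comp,
        show D (n + 1) ∘ₗ D n = 0 from LinearMap.ext hdd, LinearMap.rTensor_zero, LinearMap.zero_apply]
  exact ((Module.FaithfullyFlat.rTensor_exact_iff_exact Γ(U.left, ⊤) Γ(V.left, ⊤) (D n) (D (n + 1))).1 hex x).1 hx

omit p in
theorem acyc_sh : Groth.L28.EtCartan.Acyc (sh F) := by
  intro V U _ _ p _ n x hx
  obtain ⟨y, hy⟩ := exact_dM F p n (toSec F _ x) (by rw [← toSec_d, hx, map_zero])
  exact ⟨ULift.up y, ULift.ext _ _ ((toSec_d F p n (ULift.up y)).trans hy)⟩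

omit p in
/-- Sheaves of quasi-coherent modules have no higher direct image on opens. -/
theorem isZero_rightDerived_resZar [EtZar.ZarCont S] [(EtZar.resZar S).Additive] {G : EtCoh.Ab S}
    (hG : EtAssoc.IsAssoc F G) (n : ℕ) : IsZero (((EtZar.resZar S).rightDerived (n + 1)).obj G) := by
  obtain ⟨e⟩ := nonempty_iso_sh F hG
  exact (Groth.L28.EtCartan.isZero_rightDerived_of_acyc S _ (acyc_sh F) n).of_iso
    (((EtZar.resZar S).rightDerived (n + 1)).mapIso e)

/-- Sections over an open, seen over the open subscheme. -/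
def toOpen (W : S.Opens) (s : Γ(F, W)) : Γ(Mo F W.ι, (⊤ : W.toScheme.Opens)) :=
  rs (Mo F W.ι) (fun x _ => x.2) (Groth.L18.Frame.pull W.ι F W s)

theorem bijective_res_opens (W : S.Opens) :
    Function.Bijective (toOpen F W) := by
  let a := (Scheme.Modules.restrictFunctorIsoPullback W.ι).app F
  let i : Γ(F, W) → Γ(F, W.ι ''ᵁ ⊤) := rs F W.ι_image_top.le
  have hi : Function.Bijective i := Function.bijective_iff_has_inverse.2
    ⟨rs F W.ι_image_top.ge, fun s => (rs_rs F _ _ s).trans (rs_self F _ s), fun s => (rs_rs F _ _ s).trans (rs_self F _ s)⟩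
  have h : ∀ s, toOpen F W s = a.hom.app ⊤ (i s) := fun s => by
    show rs (Mo F W.ι) _ (Groth.L18.Frame.pull W.ι F W s) = _
    rw [← Groth.L17.BC.PullSec.restrict_pull W.ι F W s, ← Groth.L17.BC.PullSec.app_rs]
    refine congrArg _ ?_
    exact rs_rs F _ (W.ι.image_mono (fun x _ => x.2)) s
  rw [funext h]
  exact (Function.bijective_iff_has_inverse.2 ⟨fun s => a.inv.app ⊤ s,
    fun s => congr($(congrArg (fun k => Scheme.Modules.Hom.app k ⊤) a.hom_inv_id) s),
    fun s => congr($(congrArg (fun k => Scheme.Modules.Hom.app k ⊤) a.inv_hom_id) s)⟩).comp hi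

omit p in
/-- Restricted to opens, the sheaf is the module. -/
theorem nonempty_resZar_iso [EtZar.ZarCont S] :
    Nonempty ((EtZar.resZar S).obj (sh F) ≅ (Groth.L28.UnivLift.lift S).obj (Coh.toAb F)) := by
  let e : ∀ W : S.Opens, ULift.{u + 1} Γ(F, W) ≃+ ULift.{u + 1} (Sec F ((EtZar.zarToEt S).obj W)) := fun W =>
    AddEquiv.ofBijective
      (AddMonoidHom.mk' (fun s => ULift.up (toOpen F W s.down))
        (fun a b => ULift.ext _ _ ((congrArg (rs (Mo F W.ι) _) (map_add
          (((Scheme.Modules.pullbackPushforwardAdjunction W.ι).unit.app F).app W).hom a.down b.down)).trans (map_add _ _ _))))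
      ⟨fun a b h => ULift.ext _ _ ((bijective_res_opens F W).1 (congrArg ULift.down h)),
        fun y => let ⟨s, hs⟩ := (bijective_res_opens F W).2 y.down; ⟨ULift.up s, ULift.ext _ _ hs⟩⟩
  refine ⟨((fullyFaithfulSheafToPresheaf _ _).preimageIso (NatIso.ofComponents
    (fun W => (e W.unop).toAddCommGrpIso) fun {W W'} i => ?_)).symm⟩
  ext s
  refine ULift.ext _ _ ?_
  show toOpen F W'.unop (rs F i.unop.le s.down) =
    res F ((EtZar.zarToEt S).map i.unop) (toOpen F W.unop s.down)
  refine Eq.trans ?_ (R_pull F ((EtZar.zarToEt S).map i.unop).left W.unop.ι W'.unop.ι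
    (MorphismProperty.Over.w ((EtZar.zarToEt S).map i.unop)) s.down
    (fun x _ => x.2) le_top (fun x _ => i.unop.le x.2)).symm
  show rs (Mo F W'.unop.ι) _ (Groth.L18.Frame.pull W'.unop.ι F W'.unop (rs F i.unop.le s.down)) = _
  rw [← Groth.L18.Frame.pull_rs W'.unop.ι F i.unop.le, rs_rs]

omit p in
/-- Etale cohomology of the sheaf is Zariski cohomology of the module. -/
theorem nonempty_H_iso {G : EtCoh.Ab S} (hG : EtAssoc.IsAssoc F G) (q : ℕ) :
    Nonempty (EtCoh.H S G q ≃+ Coh.HH S F q) := by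
  haveI := Groth.L28.EtCartan.zarCont S
  haveI : (EtZar.resZar S).Additive :=
    haveI := (Groth.L28.EtCartan.zarAdj S).rightAdjoint_preservesLimits
    Functor.additive_of_preserves_binary_products _
  obtain ⟨i⟩ := nonempty_iso_sh F hG
  obtain ⟨j⟩ := nonempty_resZar_iso F
  obtain ⟨e⟩ := Groth.L28.EtCartan.nonempty_H_resZar S (sh F)
    (fun n => Groth.L28.EtCartan.isZero_rightDerived_of_acyc S _ (acyc_sh F) n) q
  obtain ⟨l, -⟩ := Groth.L28.UnivLift.exists_H_lift S (Coh.toAb F) q
  let m : EtZar.H ((EtZar.resZar S).obj (sh F)) q ≃+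
      EtZar.H ((Groth.L28.UnivLift.lift S).obj (Coh.toAb F)) q :=
    { toFun := fun x => Sheaf.H.map j.hom q x
      invFun := fun x => Sheaf.H.map j.inv q x
      left_inv := fun x => by simp [Sheaf.H.map_apply]
      right_inv := fun x => by simp [Sheaf.H.map_apply]
      map_add' := fun x y => map_add _ x y }
  exact ⟨(((EtCoh.HF S q).mapIso i).addCommGroupIsoToAddEquiv.trans e.symm).trans (m.trans l.symm)⟩

end Groth.L27.Assoc
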