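import Groth.Agent.L27.Assoc.Res
import Groth.Agent.L27.EtSite.SheafCriterion
import Mathlib.Algebra.Category.Grp.Ulift

/-! # The presheaf of sections of pullbacks on the small etale site -/

universe u

open CategoryTheory CategoryTheory.Limits AlgebraicGeometry TopologicalSpace Opposite
open scoped TensorProduct

set_option autoImplicit false
set_option linter.style.haveILetI false
set_option linter.unusedSectionVars false
set_option backward.isDefEq.respectTransparency false

noncomputable section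

namespace Groth.L27.Assoc

open Groth.L18.Frame (rs ro rs_rs rs_self rs_smul)

variable {S : Scheme.{u}} (F : S.Modules)

/-- Sections over an etale scheme. -/
abbrev Sec (A : S.Etale) : Type u := Γ(Mo F A.hom, (⊤ : A.left.Opens))

/-- Restriction along a morphism of etale schemes. -/
def res {A B : S.Etale} (g : B ⟶ A) : Sec F A →+ Sec F B :=
  AddMonoidHom.mk' (R F g.left A.hom B.hom (MorphismProperty.Over.w g) (V := ⊤) (V' := ⊤) le_top)
    (R_add F g.left A.hom B.hom _ le_top)

theorem res_apply {A B : S.Etale} (g : B ⟶ A) (s : Sec F A) :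
    res F g s = R F g.left A.hom B.hom (MorphismProperty.Over.w g) (V := ⊤) (V' := ⊤) le_top s := rfl

theorem res_eq_resMap {A B : S.Etale} (g : B ⟶ A) (s : Sec F A) : EtAssoc.resMap F g s = res F g s :=
  resMap_eq F g s _ _

theorem res_id (A : S.Etale) (s : Sec F A) : res F (𝟙 A) s = s :=
  (R_id F A.hom (V := ⊤) (V' := ⊤) (Category.id_comp _) le_top le_rfl s).trans (rs_self _ _ _)

theorem res_comp {A B C : S.Etale} (g : B ⟶ A) (h : C ⟶ B) (s : Sec F A) :
    res F (h ≫ g) s = res F h (res F g s) :=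
  (R_comp F g.left A.hom B.hom (MorphismProperty.Over.w g) h.left C.hom (MorphismProperty.Over.w h)
    (MorphismProperty.Over.w (h ≫ g)) le_top le_top le_top s).symm

/-- The presheaf of sections. -/
def psh : (S.Etale)ᵒᵖ ⥤ AddCommGrpCat.{u + 1} where
  obj A := AddCommGrpCat.of (ULift.{u + 1} (Sec F A.unop))
  map g := AddCommGrpCat.ofHom (AddMonoidHom.mk' (fun s => ⟨res F g.unop s.down⟩)
    (fun s t => ULift.ext _ _ (map_add (res F g.unop) s.down t.down)))
  map_id A := by
    ext s
    exact res_id F A.unop s.down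
  map_comp g h := by
    ext s
    exact res_comp F g.unop h.unop s.down

theorem psh_map {A B : S.Etale} (g : B ⟶ A) (s : (psh F).obj (op A)) :
    ((psh F).map g.op s).down = res F g s.down := rfl

/-- Restriction to the open image of an open immersion is bijective. -/
theorem bijective_res_open {A B : S.Etale} (g : B ⟶ A) [IsOpenImmersion g.left] :
    Function.Bijective (R F g.left A.hom B.hom (MorphismProperty.Over.w g) (V := g.left.opensRange) (V' := ⊤)
      (fun x _ => ⟨x, rfl⟩)) := by
  have h := bijective_R_of_isOpenImmersion F g.left A.hom B.hom (MorphismProperty.Over.w g) ⊤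
    (fun x hx => ⟨x, hx, rfl⟩)
  have key : ∀ (V : A.left.Opens) (e : (⊤ : B.left.Opens) ≤ g.left ⁻¹ᵁ V), V = g.left ''ᵁ ⊤ →
      Function.Bijective (R F g.left A.hom B.hom (MorphismProperty.Over.w g) (V := V) (V' := ⊤) e) := by
    rintro V e rfl
    exact h
  exact key _ _ g.left.image_top_eq_opensRange.symm

theorem res_eq_R {A B : S.Etale} (g : B ⟶ A) {V : A.left.Opens} (e : (⊤ : B.left.Opens) ≤ g.left ⁻¹ᵁ V)
    (s : Sec F A) :
    res F g s = R F g.left A.hom B.hom (MorphismProperty.Over.w g) e (rs _ le_top s) := by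
  rw [R_rs F g.left A.hom B.hom (MorphismProperty.Over.w g) (le_top : V ≤ ⊤) (le_rfl : (⊤ : B.left.Opens) ≤ ⊤)
    le_top e s, rs_self]
  rfl

/-- Sections of a sheaf of modules agreeing locally are equal. -/
theorem eq_of_locally {X : Scheme.{u}} {M : X.Modules} {U : X.Opens} {s t : Γ(M, U)}
    (h : ∀ x : U, ∃ (O : X.Opens) (hx : x.1 ∈ O) (hO : O ≤ U), rs M hO s = rs M hO t) : s = t := by
  choose O hx hO hst using h
  exact TopCat.Sheaf.eq_of_locally_eq' ⟨M.presheaf, M.isSheaf⟩ O U (fun x => homOfLE (hO x))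
    (fun x hxU => Opens.mem_iSup.2 ⟨⟨x, hxU⟩, hx ⟨x, hxU⟩⟩) s t hst

/-- The open subobject. -/
def opn (A : S.Etale) (O : A.left.Opens) : S.Etale :=
  haveI : Etale A.hom := A.prop
  Scheme.Etale.mk (O.ι ≫ A.hom)

/-- Its inclusion. -/
def opnHom (A : S.Etale) (O : A.left.Opens) : opn A O ⟶ A := MorphismProperty.Over.homMk O.ι rfl

/-- Sections on open subobjects agree with sections on opens. -/
theorem bijective_opn (A : S.Etale) (O : A.left.Opens) :
    Function.Bijective (R F O.ι A.hom (opn A O).hom rfl (V := O) (V' := (⊤ : O.toScheme.Opens))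
      (fun x _ => x.2)) := by
  have h := bijective_R_of_isOpenImmersion F O.ι A.hom (opn A O).hom rfl ⊤ (fun x hx => ⟨x, hx, rfl⟩)
  have key : ∀ (V : A.left.Opens) (e : (⊤ : O.toScheme.Opens) ≤ O.ι ⁻¹ᵁ V), V = O.ι ''ᵁ ⊤ →
      Function.Bijective (R F O.ι A.hom (opn A O).hom rfl (V := V) (V' := (⊤ : O.toScheme.Opens)) e) := by
    rintro V e rfl
    exact h
  exact key _ _ O.ι_image_top.symm

theorem isSheaf_zar : Presieve.IsSheaf (SheafCriterion.zar S) (psh F ⋙ CategoryTheory.forget AddCommGrpCat.{u + 1}) := by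
  intro A T hT x hx
  have hx' : ∀ ⦃Y Z : S.Etale⦄ (f : Y ⟶ A) (k : Z ⟶ Y) (hf : T f) (hkf : T (k ≫ f)),
      (x (k ≫ f) hkf).down = res F k (x f hf).down := fun Y Z f k hf _ =>
    congrArg ULift.down ((Presieve.compatible_iff_sieveCompatible x).1 hx f k hf)
  choose W g w hg hgo hgw using (SheafCriterion.mem_zar_iff T).1 hT
  haveI : ∀ a, IsOpenImmersion (g a).left := hgo
  let O : A.left → A.left.Opens := fun a => (g a).left.opensRange
  have hO : ∀ a, a ∈ O a := fun a => ⟨w a, hgw a⟩
  choose sec hsec using fun a => (bijective_res_open F (g a)).2 (x (g a) (hg a)).down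
  let M : TopCat.Sheaf AddCommGrpCat.{u} A.left.toTopCat :=
    ⟨(Mo F A.hom).presheaf, (Mo F A.hom).isSheaf⟩
  have hcompat : TopCat.Presheaf.IsCompatible M.obj O sec := by
    intro a b
    let P := O a ⊓ O b
    have hl : Set.range P.ι ⊆ Set.range (g a).left := by
      rw [Scheme.Opens.range_ι]; exact fun z hz => hz.1
    have hr : Set.range P.ι ⊆ Set.range (g b).left := by
      rw [Scheme.Opens.range_ι]; exact fun z hz => hz.2
    let la : opn A P ⟶ W a := MorphismProperty.Over.homMk (IsOpenImmersion.lift (g a).left P.ι hl) (by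
      rw [← MorphismProperty.Over.w (g a)]
      exact (Category.assoc _ _ _).symm.trans (congrArg (· ≫ A.hom) (IsOpenImmersion.lift_fac _ _ hl)))
    let lb : opn A P ⟶ W b := MorphismProperty.Over.homMk (IsOpenImmersion.lift (g b).left P.ι hr) (by
      rw [← MorphismProperty.Over.w (g b)]
      exact (Category.assoc _ _ _).symm.trans (congrArg (· ≫ A.hom) (IsOpenImmersion.lift_fac _ _ hr)))
    have ea : la ≫ g a = opnHom A P := MorphismProperty.Over.Hom.ext (IsOpenImmersion.lift_fac _ _ hl)
    have eb : lb ≫ g b = opnHom A P := MorphismProperty.Over.Hom.ext (IsOpenImmersion.lift_fac _ _ hr)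
    have hm : (x (la ≫ g a) (T.downward_closed (hg a) la)).down = (x (lb ≫ g b) (T.downward_closed (hg b) lb)).down := by
      congr 2
      exact ea.trans eb.symm
    rw [hx' (g a) la (hg a), hx' (g b) lb (hg b), ← hsec a, ← hsec b, res_apply, res_apply,
      R_comp F (g a).left A.hom (W a).hom (MorphismProperty.Over.w (g a)) la.left (opn A P).hom
        (MorphismProperty.Over.w la) (MorphismProperty.Over.w (la ≫ g a)) (V := O a) (V' := ⊤) (V'' := ⊤) (fun z _ => ⟨z, rfl⟩) le_top
        (fun z _ => ⟨la.left z, rfl⟩),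
      R_comp F (g b).left A.hom (W b).hom (MorphismProperty.Over.w (g b)) lb.left (opn A P).hom
        (MorphismProperty.Over.w lb) (MorphismProperty.Over.w (lb ≫ g b)) (V := O b) (V' := ⊤) (V'' := ⊤) (fun z _ => ⟨z, rfl⟩) le_top
        (fun z _ => ⟨lb.left z, rfl⟩)] at hm
    refine (bijective_opn F A P).1 ?_
    refine (R_rs F P.ι A.hom (opn A P).hom rfl (inf_le_left : P ≤ O a) (le_rfl : (⊤ : P.toScheme.Opens) ≤ ⊤)
      (fun z _ => z.2.1) (fun z _ => z.2) (sec a)).trans ?_
    refine Eq.trans ?_ (R_rs F P.ι A.hom (opn A P).hom rfl (inf_le_right : P ≤ O b) (le_rfl : (⊤ : P.toScheme.Opens) ≤ ⊤)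
      (fun z _ => z.2.2) (fun z _ => z.2) (sec b)).symm
    rw [rs_self, rs_self]
    refine Eq.trans ?_ (hm.trans ?_)
    · exact R_congr F A.hom (opn A P).hom (congrArg (fun m : opn A P ⟶ A => m.left) ea.symm) _ _ _ _ _
    · exact R_congr F A.hom (opn A P).hom (congrArg (fun m : opn A P ⟶ A => m.left) eb) _ _ _ _ _
  obtain ⟨z, hz, -⟩ := M.existsUnique_gluing' O ⊤ (fun a => homOfLE le_top)
    (fun a _ => Opens.mem_iSup.2 ⟨a, hO a⟩) sec hcompat
  refine ⟨ULift.up z, fun Z h hh => ?_, fun z' hz' => ULift.ext _ _ ?_⟩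
  · refine ULift.ext _ _ ?_
    show res F h z = (x h hh).down
    refine (eq_of_locally (M := Mo F Z.hom) fun p => ?_)
    let a := h.left p.1
    obtain ⟨q, hq⟩ : ∃ q : Z.left.Opens, q = h.left ⁻¹ᵁ O a := ⟨_, rfl⟩
    refine ⟨q, hq ▸ hO a, le_top, (bijective_opn F Z q).1 ?_⟩
    have hl : Set.range ((opnHom Z q).left ≫ h.left) ⊆ Set.range (g a).left := by
      rintro _ ⟨z', rfl⟩
      exact (hq ▸ z'.2 : (opnHom Z q).left z' ∈ h.left ⁻¹ᵁ O a)
    let l : opn Z q ⟶ W a := MorphismProperty.Over.homMk (IsOpenImmersion.lift (g a).left _ hl) (by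
      rw [← MorphismProperty.Over.w (g a)]
      refine (Category.assoc _ _ _).symm.trans ((congrArg (· ≫ A.hom) (IsOpenImmersion.lift_fac _ _ hl)).trans ?_)
      exact (Category.assoc _ _ _).trans (congrArg (_ ≫ ·) (MorphismProperty.Over.w h)))
    have el : l ≫ g a = opnHom Z q ≫ h := MorphismProperty.Over.Hom.ext (IsOpenImmersion.lift_fac _ _ hl)
    have e1 : res F (opnHom Z q) (x h hh).down = res F l (x (g a) (hg a)).down := by
      rw [← hx' h (opnHom Z q) hh (T.downward_closed hh _), ← hx' (g a) l (hg a) (T.downward_closed (hg a) l)]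
      congr 2
      exact el.symm
    have e2 : res F (opnHom Z q) (res F h z) = res F l (x (g a) (hg a)).down := by
      rw [← res_comp, ← el, res_comp]
      congr 1
      rw [← hsec a, res_eq_R F (g a) (V := O a) (fun y _ => ⟨y, rfl⟩) z]
      congr 1
      exact hz a
    have e3 := e2.trans e1.symm
    rw [res_eq_R F (opnHom Z q) (V := q) (fun y _ => y.2), res_eq_R F (opnHom Z q) (V := q) (fun y _ => y.2)] at e3
    exact e3
  · refine eq_of_locally (M := Mo F A.hom) fun a => ⟨O a.1, hO a.1, le_top, ?_⟩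
    refine (bijective_res_open F (g a.1)).1 ?_
    refine Eq.trans ?_ (congrArg _ (hz a.1)).symm
    refine Eq.trans ?_ (hsec a.1).symm
    exact (res_eq_R F (g a.1) (V := O a.1) (fun y _ => ⟨y, rfl⟩) z'.down).symm.trans
      (congrArg ULift.down (hz' (g a.1) (hg a.1)))

end Groth.L27.Assoc
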