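import Groth.Agent.L27.Assoc.Main
import Groth.Agent.L27.ModEfface.Stages

/-! # Sheaves of quasi-coherent modules under restriction -/

universe u

open CategoryTheory CategoryTheory.Limits AlgebraicGeometry TopologicalSpace Opposite

set_option autoImplicit false
set_option linter.style.haveILetI false
set_option linter.unusedSectionVars false
set_option backward.isDefEq.respectTransparency false

noncomputable section

namespace Groth.L27.Assoc

open Groth.L18.Frame (rs rs_rs rs_self pull)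

variable {S : Scheme.{u}} (F : S.Modules) {T : Scheme.{u}} (t : T ⟶ S)

theorem θ_R {V V' : Scheme.{u}} (g : V' ⟶ V) (v : V ⟶ T) (v' : V' ⟶ T) (w : g ≫ v = v') (w' : g ≫ v ≫ t = v' ≫ t)
    {O : V.Opens} {O' : V'.Opens} (e : O' ≤ g ⁻¹ᵁ O) (s : Γ(Mo (Mo F t) v, O)) :
    (θ F v' t (v' ≫ t) rfl).app O' (R (Mo F t) g v v' w e s) =
      R F g (v ≫ t) (v' ≫ t) w' e ((θ F v t (v ≫ t) rfl).app O s) := by
  have key : adjR (Mo F t) g v v' w ≫ (Scheme.Modules.pushforward g).map (θ F v' t (v' ≫ t) rfl) =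
      θ F v t (v ≫ t) rfl ≫ adjR F g (v ≫ t) (v' ≫ t) w' := by
    refine ext_pull v fun W x => ?_
    have e₀ : g ⁻¹ᵁ (v ⁻¹ᵁ W) ≤ v' ⁻¹ᵁ W := le_of_eq (by rw [← w]; rfl)
    have h1 : (adjR (Mo F t) g v v' w).app (v ⁻¹ᵁ W) (pull v (Mo F t) W x) =
        rs _ e₀ (pull v' (Mo F t) W x) := by
      have h := R_pull (Mo F t) g v v' w x (V := v ⁻¹ᵁ W) (V' := g ⁻¹ᵁ (v ⁻¹ᵁ W)) le_rfl le_rfl e₀
      rw [← adjR_app, rs_self, rs_self] at h
      exact h
    show (θ F v' t (v' ≫ t) rfl).app (g ⁻¹ᵁ (v ⁻¹ᵁ W))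
        ((adjR (Mo F t) g v v' w).app (v ⁻¹ᵁ W) (pull v (Mo F t) W x)) =
      (adjR F g (v ≫ t) (v' ≫ t) w').app (v ⁻¹ᵁ W) ((θ F v t (v ≫ t) rfl).app (v ⁻¹ᵁ W) (pull v (Mo F t) W x))
    rw [h1]
    show R F v' t (v' ≫ t) rfl e₀ x = _
    have h2 : (θ F v t (v ≫ t) rfl).app (v ⁻¹ᵁ W) (pull v (Mo F t) W x) =
        R F v t (v ≫ t) rfl (V' := v ⁻¹ᵁ W) le_rfl x := by
      show _ = (θ F v t (v ≫ t) rfl).app _ (rs _ le_rfl _)
      rw [rs_self]
    have h3 := adjR_app F g (v ≫ t) (v' ≫ t) w' (V := v ⁻¹ᵁ W) (V' := g ⁻¹ᵁ (v ⁻¹ᵁ W)) le_rfl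
      ((θ F v t (v ≫ t) rfl).app (v ⁻¹ᵁ W) (pull v (Mo F t) W x))
    rw [rs_self] at h3
    rw [h3, h2, R_comp F v t (v ≫ t) rfl g (v' ≫ t) w' (by rw [Category.assoc, w']) le_rfl le_rfl le_rfl]
    exact R_congr F t (v' ≫ t) w.symm _ _ _ _ _
  rw [← adjR_app F g (v ≫ t) (v' ≫ t) w' e, ← adjR_app (Mo F t) g v v' w e]
  refine (Groth.L17.BC.PullSec.app_rs _ e _).trans ?_
  exact congrArg (rs _ e) (congr($(congrArg (fun k => Scheme.Modules.Hom.app k O) key) s))

variable [Coh.IsQCoh F] [AlgebraicGeometry.Etale t]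

/-- Restriction of the sheaf is the sheaf of the pullback. -/
theorem nonempty_restr_iso [EtShriek.JCont t] :
    Nonempty ((EtShriek.restrAlong t).obj (sh F) ≅ sh (Mo F t)) := by
  let e : ∀ V : T.Etale, ULift.{u + 1} (Sec (Mo F t) V) ≃+
      ULift.{u + 1} (Sec F ((EtShriek.compEtale t).obj V)) := fun V =>
    let a := asIso (θ F V.hom t (V.hom ≫ t) rfl)
    { toFun := fun x => ULift.up (a.hom.app ⊤ x.down)
      invFun := fun x => ULift.up (a.inv.app ⊤ x.down)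
      left_inv := fun x => ULift.ext _ _ congr($(congrArg (fun k => Scheme.Modules.Hom.app k ⊤) a.hom_inv_id) x.down)
      right_inv := fun x => ULift.ext _ _ congr($(congrArg (fun k => Scheme.Modules.Hom.app k ⊤) a.inv_hom_id) x.down)
      map_add' := fun x y => ULift.ext _ _ (map_add (a.hom.app ⊤).hom x.down y.down) }
  refine ⟨((fullyFaithfulSheafToPresheaf _ _).preimageIso (NatIso.ofComponents
    (fun V => (e V.unop).toAddCommGrpIso) fun {V V'} g => ?_)).symm⟩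
  ext s
  exact ULift.ext _ _ (θ_R F t g.unop.left V.unop.hom V'.unop.hom (MorphismProperty.Over.w g.unop)
    ((Category.assoc _ _ _).symm.trans (congrArg (· ≫ t) (MorphismProperty.Over.w g.unop))) le_top s.down)

omit [AlgebraicGeometry.Etale t] in
/-- Sheaves of quasi-coherent modules are acyclic on affine etale schemes. -/
theorem etAcyclicAff {G : EtCoh.Ab S} (hG : EtAssoc.IsAssoc F G) : ModEfface.EtAcyclicAff G := by
  intro U t _ _ q
  haveI := Groth.L27.ExtZero.jCont t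
  obtain ⟨i⟩ := nonempty_iso_sh F hG
  obtain ⟨j⟩ := nonempty_restr_iso F t
  exact ModEfface.subsingleton_H_of_iso
    ((ExtZero.pullRestr t).app G ≪≫ (EtShriek.restrAlong t).mapIso i ≪≫ j) _
    (Groth.L28.EtCartan.subsingleton_H q _ (acyc_sh (Mo F t)))

end Groth.L27.Assoc
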